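import Cfsg.Agent.CosetCert.Fi23Chain1.CheckTable0

/-! Generated: kernel checks combined. -/

set_option maxRecDepth 100000

namespace Cfsg.Agent.CosetCert.Fi23Chain1

theorem coset_ok : ∀ i, i < 14080 → data.checkCoset i = true := by
  have h0 : ∀ i, i < 0 → data.checkCoset i = true := forall_lt_zero
  have h1 := forall_lt_step (b := 1000) h0 coset_okAt0 rfl
  have h2 := forall_lt_step (b := 2000) h1 coset_okAt1000 rfl
  have h3 := forall_lt_step (b := 3000) h2 coset_okAt2000 rfl
  have h4 := forall_lt_step (b := 4000) h3 coset_okAt3000 rfl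
  have h5 := forall_lt_step (b := 5000) h4 coset_okAt4000 rfl
  have h6 := forall_lt_step (b := 6000) h5 coset_okAt5000 rfl
  have h7 := forall_lt_step (b := 7000) h6 coset_okAt6000 rfl
  have h8 := forall_lt_step (b := 8000) h7 coset_okAt7000 rfl
  have h9 := forall_lt_step (b := 9000) h8 coset_okAt8000 rfl
  have h10 := forall_lt_step (b := 10000) h9 coset_okAt9000 rfl
  have h11 := forall_lt_step (b := 11000) h10 coset_okAt10000 rfl
  have h12 := forall_lt_step (b := 12000) h11 coset_okAt11000 rfl
  have h13 := forall_lt_step (b := 13000) h12 coset_okAt12000 rfl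
  have h14 := forall_lt_step (b := 14000) h13 coset_okAt13000 rfl
  have h15 := forall_lt_step (b := 14080) h14 coset_okAt14000 rfl
  exact h15

end Cfsg.Agent.CosetCert.Fi23Chain1
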